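import Cfsg.Agent.BlkStar.Star
import Cfsg.Agent.BrauerPairs.AbelianDefect

/-!
# The stabiliser controls the fusion of a block with abelian defect group
-/

set_option autoImplicit false
set_option maxHeartbeats 400000
set_option linter.style.haveILetI false

namespace Cfsg.Agent.BlkWat

open Cfsg Cfsg.Agent.BrauerPairs

universe u

variable {p : ℕ} [Fact p.Prime] {M : Ideal AlgInt} [M.IsPrime] [CharP (Block.ResF M) p]
  {G : Type u} [Group G] [Finite G] {B : Set (IrrCharacter G)} {P : Subgroup G}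
  {e : Blk M (Subgroup.centralizer (P : Set G))}

/-- Conjugation between subpairs agrees with an element of the stabiliser of the top pair. -/
theorem exists_stab_top_conj (hm : IsMaximalBrauerPair p M B P e.1)
    (hab : ∀ x ∈ P, ∀ y ∈ P, x * y = y * x) {Q : Subgroup G}
    {f : Blk M (Subgroup.centralizer (Q : Set G))} (hf : SLE (pairSys M G) p ⟨Q, f⟩ ⟨P, e⟩)
    {x : G} {b : PairIdx M G} (hx : CjRel (pairSys M G) x ⟨Q, f⟩ b)
    (hb : SLE (pairSys M G) p b ⟨P, e⟩) :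
    ∃ y ∈ stab (⟨P, e⟩ : PairIdx M G), ∀ q ∈ Q, y * q * y⁻¹ = x * q * x⁻¹ := by
  have hP : IsPGroup p P := hm.1.1.1
  obtain ⟨F, hF⟩ := exists_blockFS hm
  have hcent : ∀ R : Subgroup G, R ≤ P → FusionSystem.centralizerIn P R = P := fun R hR =>
    inf_of_le_left (le_centralizer_of_abelian hab hR)
  obtain ⟨Q', f'⟩ := b
  have hQ' : Q.map (MulAut.conj x).toMonoidHom = Q' := hx.1
  have hfc : F.IsFullyCentralized Q' := by
    refine ⟨hb.le, fun R hR => ?_⟩
    rw [hcent Q' hb.le, hcent R (FusionSys.isConj_le_right hR)]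
  obtain ⟨-, hrec⟩ := receptive_of_isFullyCentralized hF hfc
  have hφ : (MulAut.conj x).toMonoidHom.comp Q.subtype ∈ F.Hom Q :=
    (mem_hom_iff hF).2 ⟨hf.le, x, fun u => rfl, f, hf, ⟨Q', f'⟩, hx, hb⟩
  have hr : ((MulAut.conj x).toMonoidHom.comp Q.subtype).range = Q' :=
    (range_eq_map_conj (g := x) fun u => rfl).trans hQ'
  obtain ⟨ψ, hψ, hext⟩ := hrec Q _ hφ hr
  have hPN : P ≤ FusionSystem.extender P Q ((MulAut.conj x).toMonoidHom.comp Q.subtype) := by
    intro n hn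
    refine FusionSys.mem_extender.2 ⟨hn, ?_, 1, P.one_mem, fun q hq => ?_⟩
    · exact Subgroup.centralizer_le_normalizer _ (le_centralizer_of_abelian hab hf.le hn)
    · show x * (n * (q : G) * n⁻¹) * x⁻¹ = 1 * (x * (q : G) * x⁻¹) * 1⁻¹
      rw [hab n hn q (hf.le q.2)]
      group
  obtain ⟨hN, g, hg, f'', hf'', c, hc, hc'⟩ := (mem_hom_iff hF).1 hψ
  obtain ⟨R, fR⟩ := c
  have h0 : (FusionSystem.extender P Q ((MulAut.conj x).toMonoidHom.comp Q.subtype)).map
      (MulAut.conj g).toMonoidHom = R := hc.1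
  have heq : FusionSystem.extender P Q ((MulAut.conj x).toMonoidHom.comp Q.subtype) = P :=
    le_antisymm hN hPN
  have hRP : R = P := by
    refine Subgroup.eq_of_le_of_card_ge hc'.le ?_
    rw [← h0, heq, Subgroup.card_map_of_injective (MulAut.conj g).injective]
  subst hRP
  obtain rfl : fR = e := (existsUnique_sle (S := pairSys M G) (b := ⟨R, e⟩) hP le_rfl).unique hc'
    Relation.ReflTransGen.refl
  have hgN : g ∈ Subgroup.normalizer (R : Set G) := by
    rw [heq] at h0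
    rw [Subgroup.mem_normalizer_iff]
    intro z
    constructor
    · intro hz
      rw [← h0]
      exact ⟨z, hz, by simp⟩
    · intro hz
      rw [← h0, mem_map_conj_iff] at hz
      simpa [mul_assoc] using hz
  have hse : SLE (pairSys M G) p ⟨R, fR⟩
      ⟨FusionSystem.extender R Q ((MulAut.conj x).toMonoidHom.comp Q.subtype), f''⟩ :=
    sle_of_sle_of_le hP Relation.ReflTransGen.refl hf'' hPN
  have hfix : (pairSys M G R).idem fR = cj g ((pairSys M G R).idem fR) := by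
    have h2 := hse.eq_of_le hN
    have h3 := hc.2
    rw [← h2] at h3
    exact h3
  refine ⟨g, ⟨hgN, hfix.symm⟩, fun q hq => ?_⟩
  have := hext q hq (hPN (hf.le hq))
  rw [hg] at this
  exact this

/-- A linear character invariant under the stabiliser is trivial on the focal subgroup. -/
theorem triv_of_invariant [Fintype G] (D : BlkStar.SD p M G)
    (hab : ∀ x ∈ D.P, ∀ y ∈ D.P, x * y = y * x) (l : D.P →* ℂˣ)
    (hl : ∀ t ∈ stab (⟨D.P, D.e⟩ : PairIdx M G), ∀ x y : D.P,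
      t * (x : G) * t⁻¹ = (y : G) → l y = l x) : D.Triv l := by
  intro u hu
  have key : ∀ g : G, g ∈ D.F.focalSubgroup → ∃ h : g ∈ D.P, l ⟨g, h⟩ = 1 := by
    intro g hg
    induction hg using Subgroup.closure_induction with
    | mem y hy =>
      obtain ⟨Q, φ, x, hφ, rfl⟩ := hy
      obtain ⟨hQP, g, hg, f, hf, b, hb, hb'⟩ := (mem_hom_iff D.isFS).1 hφ
      obtain ⟨t, ht, htq⟩ := exists_stab_top_conj D.isMax hab hf hb hb'
      have htx : t * (x : G) * t⁻¹ = φ x := (htq x x.2).trans (hg x).symm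
      have hxP : (x : G) ∈ D.P := hQP x.2
      have hφP : φ x ∈ D.P := htx ▸ ((Subgroup.mem_normalizer_iff.1 ht.1) x).1 hxP
      refine ⟨mul_mem (inv_mem hxP) hφP, ?_⟩
      have he : (⟨(x : G)⁻¹ * φ x, mul_mem (inv_mem hxP) hφP⟩ : D.P) =
          (⟨x, hxP⟩ : D.P)⁻¹ * ⟨φ x, hφP⟩ := rfl
      rw [he, map_mul, map_inv, hl t ht ⟨x, hxP⟩ ⟨φ x, hφP⟩ htx, inv_mul_cancel]
    | one => exact ⟨one_mem _, map_one l⟩
    | mul a b _ _ ha hb =>
      obtain ⟨ha, ha'⟩ := ha
      obtain ⟨hb, hb'⟩ := hb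
      refine ⟨mul_mem ha hb, ?_⟩
      rw [show (⟨a * b, mul_mem ha hb⟩ : D.P) = ⟨a, ha⟩ * ⟨b, hb⟩ from rfl, map_mul, ha', hb',
        one_mul]
    | inv a _ ha =>
      obtain ⟨ha, ha'⟩ := ha
      refine ⟨inv_mem ha, ?_⟩
      rw [show (⟨a⁻¹, inv_mem ha⟩ : D.P) = (⟨a, ha⟩ : D.P)⁻¹ from rfl, map_inv, ha', inv_one]
  obtain ⟨h, h'⟩ := key u hu
  exact h'

end Cfsg.Agent.BlkWat
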