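import Cfsg.Agent.BlockCover.ChainSum
import Cfsg.Agent.BrauerPairs.AbelianLocal

/-!
# The regular rank of the block of a pair along the moves between pairs
-/

set_option autoImplicit false
set_option linter.style.haveILetI false

namespace Cfsg.Agent.BlkWat

open Cfsg Cfsg.Agent.BrauerPairs

universe u

variable {p : ℕ} {M : Ideal AlgInt} [M.IsPrime]

theorem blockCoeff_image {K K' : Type u} [Group K] [Group K'] [Finite K] [Finite K']
    (e : K ≃* K') (b : Set (IrrCharacter K')) (a : K) :
    blockCoeff (Brauer.irrComp e '' b) a = blockCoeff b (e a) := by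
  unfold blockCoeff
  rw [Nat.card_congr e.toEquiv, finsum_mem_image (Brauer.irrComp e).injective.injOn]
  refine congrArg _ (finsum_mem_congr rfl fun χ _ => ?_)
  rw [Brauer.coe_irrComp]
  simp

/-- Isomorphisms matching the idempotents match the ranks. -/
theorem blockRank_eq_of_equiv {K K' : Type u} [Group K] [Group K'] [Finite K] [Finite K']
    (e : K ≃* K') (b : Blk M K) (b' : Blk M K')
    (h : ∀ a : K, ((blockSysTop M).idem b).coeff a = ((blockSysTop M).idem b').coeff (e a)) :
    blockRank p b.1 = blockRank p b'.1 := by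
  classical
  haveI := Fintype.ofFinite K
  haveI := Fintype.ofFinite K'
  let c : Blk M K := ⟨Brauer.irrComp e '' b'.1, Brauer.isPBlock_image_irrComp e b'.2⟩
  have hc : c = b := by
    refine (blockSysTop M).idem_injective ?_
    show Block.idemF M c.1 = Block.idemF M b.1
    have h : ∀ a : K, (Block.idemF M b.1).coeff a = (Block.idemF M b'.1).coeff (e a) := h
    refine Block.groupAlgebra_ext fun a => ?_
    rw [h a, Block.coeff_idemF c.2, Block.coeff_idemF b'.2, blockCoeff_image]
  rw [← hc]
  exact BlockCover.blockRank_image_irrComp e b'.1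

variable {G : Type u} [Group G] [Finite G]

theorem coeff_idem_pairSys (Q : Subgroup G) (f : Blk M (Subgroup.centralizer (Q : Set G)))
    (y : Subgroup.centralizer (Q : Set G)) :
    ((pairSys M G Q).idem f).coeff (y : G) = ((blockSysTop M).idem f).coeff y := by
  haveI := Fintype.ofFinite G
  haveI := Fintype.ofFinite (Subgroup.centralizer (Q : Set G))
  show (Block.incl _ (Block.idemF M f.1)).coeff (y : G) = (Block.idemF M f.1).coeff y
  exact Block.coeff_incl_coe _ _ y

/-- Blocks of equal subgroups with orthogonality failing are the same. -/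
theorem blockRank_eq_of_mul_ne_zero {H H' : Subgroup G} (h : H = H') (b : Blk M H) (b' : Blk M H')
    (hne : (blockSys M H).idem b * (blockSys M H').idem b' ≠ 0) :
    blockRank p b.1 = blockRank p b'.1 := by
  subst h
  obtain rfl : b = b' := by
    by_contra hb
    exact hne ((blockSys M H).idem_mul_ne b b' hb)
  rfl

/-- Conjugate pairs have blocks of equal rank. -/
theorem blockRank_eq_of_cjRel {x : G} {a b : PairIdx M G} (h : CjRel (pairSys M G) x a b) :
    blockRank p b.2.1 = blockRank p a.2.1 := by
  obtain ⟨h1, h2⟩ := h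
  have hmap : (Subgroup.centralizer (a.1 : Set G)).map (MulAut.conj x).toMonoidHom =
      Subgroup.centralizer (b.1 : Set G) := by
    rw [← h1, centralizer_map_conj]
  let e : Subgroup.centralizer (a.1 : Set G) ≃* Subgroup.centralizer (b.1 : Set G) :=
    ((Subgroup.centralizer (a.1 : Set G)).equivMapOfInjective _ (MulAut.conj x).injective).trans
      (MulEquiv.subgroupCongr hmap)
  refine (blockRank_eq_of_equiv e a.2 b.2 fun y => ?_).symm
  have he : ((e y : Subgroup.centralizer (b.1 : Set G)) : G) = x * (y : G) * x⁻¹ := rfl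
  have h3 : ((pairSys M G b.1).idem b.2).coeff (e y : G) =
      (cj x ((pairSys M G a.1).idem a.2)).coeff (e y : G) :=
    congrArg (fun z => z.coeff (e y : G)) h2
  rw [coeff_cj, he, show x⁻¹ * (x * (y : G) * x⁻¹) * x = (y : G) by group] at h3
  rw [← coeff_idem_pairSys, ← coeff_idem_pairSys, he, h3]

/-- A lifted pair has a block of the same rank. -/
theorem blockRank_eq_of_lifts {L : Subgroup G} {a' : PairIdx M L} {a : PairIdx M G}
    (h : Lifts L a' a) : blockRank p a'.2.1 = blockRank p a.2.1 := by
  obtain ⟨h1, h2, h3⟩ := h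
  have hmap : (Subgroup.centralizer (a'.1 : Set L)).map L.subtype =
      Subgroup.centralizer (a.1 : Set G) := by
    rw [centralizer_map_subtype (by rw [h1]; exact h2), h1]
  let e : Subgroup.centralizer (a'.1 : Set L) ≃* Subgroup.centralizer (a.1 : Set G) :=
    ((Subgroup.centralizer (a'.1 : Set L)).equivMapOfInjective _ L.subtype_injective).trans
      (MulEquiv.subgroupCongr hmap)
  refine blockRank_eq_of_equiv e a'.2 a.2 fun y => ?_
  have he : ((e y : Subgroup.centralizer (a.1 : Set G)) : G) = ((y : L) : G) := rfl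
  have h4 : ((pairSys M G a.1).idem a.2).coeff (e y : G) =
      (Block.incl L ((pairSys M L a'.1).idem a'.2)).coeff (e y : G) :=
    congrArg (fun z => z.coeff (e y : G)) h3
  rw [← coeff_idem_pairSys, ← coeff_idem_pairSys, h4, he, Block.coeff_incl_coe]

variable [Fact p.Prime] [CharP (Block.ResF M) p]

/-- An inclusion of pairs with equal centralisers keeps the block. -/
theorem blockRank_eq_of_nsub {a b : PairIdx M G} (h : NSub (pairSys M G) p a b)
    (hC : Subgroup.centralizer (a.1 : Set G) = Subgroup.centralizer (b.1 : Set G)) :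
    blockRank p a.2.1 = blockRank p b.2.1 := by
  refine blockRank_eq_of_mul_ne_zero hC a.2 b.2 ?_
  have h1 := h.mul_idem
  rw [trunc_eq_self_iff.2 (hC ▸ ((pairSys M G a.1).central_idem a.2).supp)] at h1
  show (pairSys M G a.1).idem a.2 * (pairSys M G b.1).idem b.2 ≠ 0
  rw [h1]
  exact (pairSys M G b.1).idem_ne_zero b.2

/-- The block of a pair on the trivial subgroup. -/
theorem blockRank_eq_of_pairOf_bot {B : Blk M G}
    {f : Blk M (Subgroup.centralizer ((⊥ : Subgroup G) : Set G))}
    (h : PairOf (blockSysTop M) (pairSys M G) p B ⟨⊥, f⟩) : blockRank p f.1 = blockRank p B.1 := by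
  have htop : Subgroup.centralizer ((⊥ : Subgroup G) : Set G) = ⊤ := by
    refine eq_top_iff.2 fun g _ => Subgroup.mem_centralizer_iff.2 fun x hx => ?_
    rw [Subgroup.mem_bot.1 hx, one_mul, mul_one]
  have h1 := h.mul_idem
  rw [trunc_eq_self_iff.2 (fun g hg => absurd (htop.symm ▸ Subgroup.mem_top g) hg)] at h1
  obtain ⟨j, hj⟩ := exists_idem_eq (blockSysTop M (G := G)) (pairSys M G ⊥) htop.symm B
  obtain rfl : j = f := by
    by_contra hne
    exact (pairSys M G ⊥).idem_ne_zero f (h1.symm.trans (by
      rw [← hj]; exact (pairSys M G ⊥).idem_mul_ne j f hne))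
  let e : Subgroup.centralizer ((⊥ : Subgroup G) : Set G) ≃* G :=
    (MulEquiv.subgroupCongr htop).trans Subgroup.topEquiv
  refine blockRank_eq_of_equiv e j B fun a => ?_
  have h2 : ((pairSys M G ⊥).idem j).coeff (a : G) = ((blockSysTop M).idem B).coeff (a : G) :=
    congrArg (fun z => z.coeff (a : G)) hj
  rw [← coeff_idem_pairSys, h2]
  rfl

end Cfsg.Agent.BlkWat
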