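import Cfsg.Agent.BlkWat.RankTransport
import Cfsg.Agent.BlkWat.Control
import Cfsg.Agent.BlkStar.Main

/-!
# The trace of the star action, summed over an abelian defect group
-/

noncomputable section

set_option autoImplicit false
set_option maxHeartbeats 400000
set_option linter.unusedSectionVars false
set_option linter.style.haveILetI false

namespace Cfsg.Agent.BlkWat

open Cfsg Cfsg.Agent.BrauerPairs Cfsg.Agent.BrauerPairs.Nil Cfsg.Agent.BlkStar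
open Cfsg.Agent.BlkChar.Contrib
open scoped ComplexConjugate Classical

universe u

variable {p : ℕ} [Fact p.Prime] {M : Ideal AlgInt} [M.IsPrime] [CharP (Block.ResF M) p]
  {G : Type u} [Group G]

section Finite

variable [Finite G]

/-- The rank of the block of the subpair on `Q` below `a`. -/
def rkAt (p : ℕ) (a : PairIdx M G) (Q : Subgroup G) : ℕ :=
  if h : ∃ f, SLE (pairSys M G) p ⟨Q, f⟩ a then blockRank p h.choose.1 else 0

theorem rkAt_eq {a : PairIdx M G} (ha : IsPGroup p a.1) {Q : Subgroup G}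
    {f : Blk M (Subgroup.centralizer (Q : Set G))} (hf : SLE (pairSys M G) p ⟨Q, f⟩ a) :
    rkAt p a Q = blockRank p f.1 := by
  have h : ∃ f, SLE (pairSys M G) p ⟨Q, f⟩ a := ⟨f, hf⟩
  rw [rkAt, dif_pos h,
    (existsUnique_sle (S := pairSys M G) (b := a) ha hf.le).unique h.choose_spec hf]

theorem rkAt_eq_pair {a : PairIdx M G} (ha : IsPGroup p a.1) {b : PairIdx M G}
    (hb : SLE (pairSys M G) p b a) : rkAt p a b.1 = blockRank p b.2.1 :=
  rkAt_eq (f := b.2) ha hb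

end Finite

variable [Fintype G]

/-- The conjugates of `v` under the stabiliser of a pair. -/
def orb (a : PairIdx M G) (v : a.1) : Finset a.1 :=
  Finset.univ.filter fun v' : a.1 => ∃ t ∈ stab a, t * (v : G) * t⁻¹ = v'

theorem mem_orb {a : PairIdx M G} {v v' : a.1} :
    v' ∈ orb a v ↔ ∃ t ∈ stab a, t * (v : G) * t⁻¹ = v' := by simp [orb]

theorem self_mem_orb {a : PairIdx M G} (v : a.1) : v ∈ orb a v :=
  mem_orb.2 ⟨1, one_mem _, by simp⟩

theorem orb_eq_of_mem {a : PairIdx M G} {v v' : a.1} (h : v' ∈ orb a v) : orb a v' = orb a v := by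
  obtain ⟨t, ht, e⟩ := mem_orb.1 h
  ext w
  rw [mem_orb, mem_orb]
  constructor
  · rintro ⟨s, hs, es⟩
    exact ⟨s * t, mul_mem hs ht, by rw [← es, ← e]; group⟩
  · rintro ⟨s, hs, es⟩
    exact ⟨s * t⁻¹, mul_mem hs (inv_mem ht), by rw [← es, ← e]; group⟩

variable (D : SD p M G)

theorem sum_secReg_self {w : G} {k : ℕ} (hw : orderOf w = p ^ k) {a : PairIdx M G}
    (ha : a.1 = Subgroup.zpowers w) (hB : PairOf (blockSysTop M) (pairSys M G) p D.B a) :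
    ∑ χ ∈ Finset.univ.filter (· ∈ D.B.1), secReg p a w (χ : G → ℂ) (χ : G → ℂ) =
      (Nat.card (Subgroup.centralizer (a.1 : Set G)) : ℂ) * (blockRank p a.2.1 : ℂ) := by
  obtain ⟨Q, f⟩ := a
  obtain rfl : Q = Subgroup.zpowers w := ha
  haveI := Fintype.ofFinite (Subgroup.centralizer (Subgroup.zpowers w : Set G))
  haveI : Fact (1 < p ^ expK p G) :=
    ⟨Nat.one_lt_pow (Nat.succ_ne_zero _) (Fact.out : p.Prime).one_lt⟩
  have hS : IsSection p (expK p G) w (Subgroup.centralizer (Subgroup.zpowers w : Set G)) :=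
    isSection_of_zpowers rfl (pow_expK (mem_pElts.2 ⟨k, hw⟩))
  have hQ : IsPGroup p (Subgroup.zpowers w) :=
    IsPGroup.of_card (n := k) (by rw [Nat.card_zpowers, hw])
  have hind := (BlockCover.isInducedBlock_iff_pairOf hQ f D.B).2 hB
  have h := sum_cM_diag_block hS D.isPModular hind (j := (1 : ZMod (p ^ expK p G))) isUnit_one
  simp only [← secReg_eq_cM hS, ZMod.val_one, pow_one, ← Finset.mul_sum] at h
  have hp0 : ((p ^ blockDefect p f.1 : ℕ) : ℂ) ≠ 0 :=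
    Nat.cast_ne_zero.2 (pow_ne_zero _ (Fact.out : p.Prime).ne_zero)
  have hC0 : (Nat.card (Subgroup.centralizer (Subgroup.zpowers w : Set G)) : ℂ) ≠ 0 :=
    Nat.cast_ne_zero.2 Nat.card_pos.ne'
  rw [div_mul_eq_mul_div, div_eq_iff hC0, mul_assoc] at h
  rw [mul_left_cancel₀ hp0 h]
  ring

/-- The elements linked to a subsection. -/
def fibre (w : G) (a : PairIdx M G) : Finset (G × D.P) :=
  Finset.univ.filter (D.Link w a)

theorem card_fibre (hab : ∀ x ∈ D.P, ∀ y ∈ D.P, x * y = y * x) {w : G} {a : PairIdx M G}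
    {g₀ : G} {v₀ : D.P} (h₀ : D.Link w a (g₀, v₀)) :
    (fibre D w a).card = (orb (⟨D.P, D.e⟩ : PairIdx M G) v₀).card *
      Nat.card (Subgroup.centralizer (a.1 : Set G)) := by
  have haQ : a.1 = Subgroup.zpowers w := h₀.fst_eq
  have hmaps : ∀ x ∈ fibre D w a, x.2 ∈ orb (⟨D.P, D.e⟩ : PairIdx M G) v₀ := by
    intro x hx
    obtain ⟨hx1, b, hb, hb1, hbc⟩ := (Finset.mem_filter.1 hx).2
    obtain ⟨h01, b₀, hb₀, hb₀1, hb₀c⟩ := h₀
    obtain ⟨Q₀, f₀⟩ := b₀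
    obtain rfl : Q₀ = Subgroup.zpowers (v₀ : G) := hb₀1
    have hrel := hb₀c.trans hbc.symm
    obtain ⟨t, ht, htq⟩ := exists_stab_top_conj D.isMax hab hb₀ hrel hb
    refine mem_orb.2 ⟨t, ht, ?_⟩
    show t * (v₀ : G) * t⁻¹ = (x.2 : G)
    have h01' : g₀ * (v₀ : G) * g₀⁻¹ = w := h01
    rw [htq _ (Subgroup.mem_zpowers _)]
    calc x.1⁻¹ * g₀ * (v₀ : G) * (x.1⁻¹ * g₀)⁻¹ = x.1⁻¹ * (g₀ * (v₀ : G) * g₀⁻¹) * x.1 := by group
      _ = x.1⁻¹ * (x.1 * (x.2 : G) * x.1⁻¹) * x.1 := by rw [h01', hx1]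
      _ = (x.2 : G) := by group
  rw [Finset.card_eq_sum_card_fiberwise hmaps, Finset.sum_const_nat fun v hv => ?_]
  obtain ⟨t, ht, htv⟩ := mem_orb.1 hv
  -- a base point over `v`
  have hbase : D.Link w a (g₀ * t⁻¹, v) := by
    obtain ⟨h01, b₀, hb₀, hb₀1, hb₀c⟩ := h₀
    obtain ⟨b, hb⟩ := exists_cjRel (S := pairSys M G) t b₀
    refine ⟨?_, b, hb₀.cjRel hb (cjRel_self_of_mem_stab ht), ?_, hb.symm.trans hb₀c⟩
    · show g₀ * t⁻¹ * (v : G) * (g₀ * t⁻¹)⁻¹ = w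
      rw [← htv]
      refine Eq.trans ?_ h01
      show g₀ * t⁻¹ * (t * (v₀ : G) * t⁻¹) * (g₀ * t⁻¹)⁻¹ = g₀ * (v₀ : G) * g₀⁻¹
      group
    · rw [← hb.1, hb₀1, MonoidHom.map_zpowers]
      exact congrArg Subgroup.zpowers htv
  rw [Nat.card_eq_fintype_card, ← Finset.card_univ]
  refine (Finset.card_bij (s := (Finset.univ : Finset (Subgroup.centralizer (a.1 : Set G))))
    (t := (fibre D w a).filter (fun x => x.2 = v))
    (fun c _ => ((c : G) * (g₀ * t⁻¹), v)) (fun c _ => ?_)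
    (fun c _ c' _ h => Subtype.ext (mul_right_cancel (Prod.ext_iff.1 h).1)) fun x hx => ?_).symm
  · refine Finset.mem_filter.2 ⟨Finset.mem_filter.2 ⟨Finset.mem_univ _, ?_⟩, rfl⟩
    have h := hbase.conj (cjRel_self_of_mem_stab (centralizer_le_stab a c.2))
    rwa [← Subgroup.mem_centralizer_iff.1 c.2 w (haQ ▸ Subgroup.mem_zpowers w),
      mul_inv_cancel_right] at h
  · obtain ⟨hx1, hx2⟩ := Finset.mem_filter.1 hx
    obtain ⟨g, v'⟩ := x
    obtain rfl : v' = v := hx2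
    have e1 : g * (v' : G) * g⁻¹ = w := (Finset.mem_filter.1 hx1).2.1
    have e2 : g₀ * t⁻¹ * (v' : G) * (g₀ * t⁻¹)⁻¹ = w := hbase.1
    have hc : g * (g₀ * t⁻¹)⁻¹ ∈ Subgroup.centralizer (a.1 : Set G) := by
      rw [haQ, Brauer.centralizer_zpowers_eq, Subgroup.mem_centralizer_singleton_iff]
      calc g * (g₀ * t⁻¹)⁻¹ * w
          = g * (g₀ * t⁻¹)⁻¹ * (g₀ * t⁻¹ * (v' : G) * (g₀ * t⁻¹)⁻¹) := by rw [e2]
        _ = g * (v' : G) * g⁻¹ * (g * (g₀ * t⁻¹)⁻¹) := by group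
        _ = w * (g * (g₀ * t⁻¹)⁻¹) := by rw [e1]
    exact ⟨⟨_, hc⟩, Finset.mem_univ _, by rw [inv_mul_cancel_right]⟩

/-- The trace of a linear character acting on the block, over the defect group. -/
theorem sum_classInner_star (hab : ∀ x ∈ D.P, ∀ y ∈ D.P, x * y = y * x) {l : D.P →* ℂˣ}
    (hl : D.Triv l) :
    ∑ χ ∈ Finset.univ.filter (· ∈ D.B.1), classInner (D.star l (χ : G → ℂ)) (χ : G → ℂ) =
      ∑ v : D.P, (l v : ℂ) * (rkAt p (⟨D.P, D.e⟩ : PairIdx M G) (Subgroup.zpowers (v : G)) : ℂ) /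
        ((orb (⟨D.P, D.e⟩ : PairIdx M G) v).card : ℂ) := by
  have hG0 : (Nat.card G : ℂ) ≠ 0 := Nat.cast_ne_zero.2 Nat.card_pos.ne'
  simp only [classInner, D.sum_star_mul_conj, ← Finset.mul_sum]
  rw [inv_mul_eq_iff_eq_mul₀ hG0, Finset.sum_comm, Finset.sum_congr rfl fun w _ => Finset.sum_comm]
  simp only [← Finset.mul_sum]
  rw [Finset.sum_sigma']
  -- every element of the product is linked to exactly one subsection
  set J := (pElts p G).sigma (fun w => pairsAt (M := M) w) with hJ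
  let F : G × D.P → ℂ := fun x =>
    (l x.2 : ℂ) * (rkAt p (⟨D.P, D.e⟩ : PairIdx M G) (Subgroup.zpowers (x.2 : G)) : ℂ) /
      ((orb (⟨D.P, D.e⟩ : PairIdx M G) x.2).card : ℂ)
  have huniq : ∀ x : G × D.P, (J.filter fun τ => D.Link τ.1 τ.2 x).card = 1 := by
    intro x
    obtain ⟨f, hf⟩ := D.exists_pair x.2
    obtain ⟨b, hb⟩ := exists_cjRel (S := pairSys M G) x.1
      (⟨Subgroup.zpowers (x.2 : G), f⟩ : PairIdx M G)
    have hl' : D.Link (x.1 * (x.2 : G) * x.1⁻¹) b x := ⟨rfl, _, hf, rfl, hb⟩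
    refine Finset.card_eq_one.2 ⟨⟨_, b⟩, Finset.eq_singleton_iff_unique_mem.2
      ⟨Finset.mem_filter.2 ⟨Finset.mem_sigma.2 ⟨mem_pElts.2 hl'.exists_orderOf,
        mem_pairsAt.2 hl'.fst_eq⟩, hl'⟩, ?_⟩⟩
    rintro ⟨w, c⟩ hc
    obtain ⟨hw, c₀, hc₀, hc₀1, hc₀c⟩ := (Finset.mem_filter.1 hc).2
    obtain rfl : x.1 * (x.2 : G) * x.1⁻¹ = w := hw
    obtain rfl : c₀ = ⟨Subgroup.zpowers (x.2 : G), f⟩ := D.eq_of_sle hc₀ hf hc₀1
    obtain rfl : c = b := hc₀c.unique hb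
    rfl
  have hswap : ∑ τ ∈ J, ∑ x ∈ fibre D τ.1 τ.2, F x = (Nat.card G : ℂ) * ∑ v : D.P, F (1, v) := by
    have h1 : ∑ τ ∈ J, ∑ x ∈ fibre D τ.1 τ.2, F x =
        ∑ x : G × D.P, ∑ τ ∈ J.filter (fun τ => D.Link τ.1 τ.2 x), F x :=
      Finset.sum_comm' (fun τ x => by simp [fibre])
    rw [h1]
    simp only [Finset.sum_const, huniq, one_smul]
    rw [Fintype.sum_prod_type]
    simp only [F, Finset.sum_const, Finset.card_univ, nsmul_eq_mul, Nat.card_eq_fintype_card]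
  rw [← hswap]
  refine Finset.sum_congr rfl fun τ hτ => ?_
  obtain ⟨w, a⟩ := τ
  obtain ⟨hw, ha⟩ := Finset.mem_sigma.1 hτ
  obtain ⟨k, hk⟩ := mem_pElts.1 hw
  by_cases hne : ∃ x, D.Link w a x
  · obtain ⟨⟨g₀, v₀⟩, h₀⟩ := hne
    show D.lt l w a * _ = ∑ x ∈ fibre D w a, F x
    rw [SD.lt_eq hl h₀, sum_secReg_self D hk (mem_pairsAt.1 ha) h₀.pairOf]
    have hFx : ∀ x ∈ fibre D w a, F x = (l v₀ : ℂ) * (blockRank p a.2.1 : ℂ) /
        ((orb (⟨D.P, D.e⟩ : PairIdx M G) v₀).card : ℂ) := by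
      intro x hx
      have hLx := (Finset.mem_filter.1 hx).2
      have h1 : (l x.2 : ℂ) = l v₀ := by
        rw [← SD.lt_eq hl hLx, SD.lt_eq hl h₀]
      obtain ⟨hx1, b, hb, hb1, hbc⟩ := hLx
      have h2 : rkAt p (⟨D.P, D.e⟩ : PairIdx M G) (Subgroup.zpowers (x.2 : G)) =
          blockRank p a.2.1 := by
        rw [← hb1, rkAt_eq_pair D.isPGroup hb, blockRank_eq_of_cjRel hbc]
      have h3 : orb (⟨D.P, D.e⟩ : PairIdx M G) x.2 = orb (⟨D.P, D.e⟩ : PairIdx M G) v₀ := by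
        obtain ⟨h01, b₀, hb₀, hb₀1, hb₀c⟩ := h₀
        obtain ⟨Q₀, f₀⟩ := b₀
        obtain rfl : Q₀ = Subgroup.zpowers (v₀ : G) := hb₀1
        obtain ⟨t, ht, htq⟩ := exists_stab_top_conj D.isMax hab hb₀ (hb₀c.trans hbc.symm) hb
        refine orb_eq_of_mem (mem_orb.2 ⟨t, ht, ?_⟩)
        show t * (v₀ : G) * t⁻¹ = (x.2 : G)
        have h01' : g₀ * (v₀ : G) * g₀⁻¹ = w := h01
        rw [htq _ (Subgroup.mem_zpowers _)]
        calc x.1⁻¹ * g₀ * (v₀ : G) * (x.1⁻¹ * g₀)⁻¹ = x.1⁻¹ * (g₀ * (v₀ : G) * g₀⁻¹) * x.1 := by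
              group
          _ = x.1⁻¹ * (x.1 * (x.2 : G) * x.1⁻¹) * x.1 := by rw [h01', hx1]
          _ = (x.2 : G) := by group
      show _ / _ = _
      rw [h1, h2, h3]
    rw [Finset.sum_congr rfl hFx, Finset.sum_const, card_fibre D hab h₀, nsmul_eq_mul,
      Nat.cast_mul]
    have ho : ((orb (⟨D.P, D.e⟩ : PairIdx M G) v₀).card : ℂ) ≠ 0 :=
      Nat.cast_ne_zero.2 (Finset.card_pos.2 ⟨v₀, self_mem_orb (a := (⟨D.P, D.e⟩ : PairIdx M G)) v₀⟩).ne'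
    field_simp
  · have he : fibre D w a = ∅ :=
      Finset.eq_empty_of_forall_notMem fun x hx => hne ⟨x, (Finset.mem_filter.1 hx).2⟩
    show D.lt l w a * _ = ∑ x ∈ fibre D w a, F x
    rw [he, Finset.sum_empty, SD.lt_eq_zero fun x hx => hne ⟨x, hx⟩, zero_mul]

/-- Only the trivial character has a nonzero trace. -/
theorem sum_mul_rk_eq_zero (hab : ∀ x ∈ D.P, ∀ y ∈ D.P, x * y = y * x) {l : D.P →* ℂˣ}
    (hl : D.Triv l) (hne : l ≠ 1) :
    ∑ v : D.P, (l v : ℂ) * (rkAt p (⟨D.P, D.e⟩ : PairIdx M G) (Subgroup.zpowers (v : G)) : ℂ) /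
        ((orb (⟨D.P, D.e⟩ : PairIdx M G) v).card : ℂ) = 0 := by
  rw [← sum_classInner_star D hab hl]
  refine Finset.sum_eq_zero fun χ hχ => ?_
  have hχ' := (Finset.mem_filter.1 hχ).2
  obtain ⟨φ, -, hφ⟩ := D.exists_irr hl hχ'
  rw [hφ, Char.classInner_irr_ne φ.2 χ.2 fun h => hne (MonoidHom.ext fun v =>
    D.apply_eq_one_of_center hl hχ' (hφ.trans h) v fun x hx => hab x hx v v.2)]

/-- The number of characters over the defect group. -/
theorem card_eq_sum_rk (hab : ∀ x ∈ D.P, ∀ y ∈ D.P, x * y = y * x) :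
    (Nat.card D.B.1 : ℂ) =
      ∑ v : D.P, (rkAt p (⟨D.P, D.e⟩ : PairIdx M G) (Subgroup.zpowers (v : G)) : ℂ) /
        ((orb (⟨D.P, D.e⟩ : PairIdx M G) v).card : ℂ) := by
  have h := sum_classInner_star D hab (l := 1) fun _ _ => rfl
  simp only [MonoidHom.one_apply, Units.val_one, one_mul] at h
  rw [← h, Finset.sum_congr rfl (g := fun _ => (1 : ℂ)) fun χ hχ => by
    rw [D.star_one_char (Finset.mem_filter.1 hχ).2, Char.classInner_irr_self χ.2]]
  simp [Nat.card_eq_fintype_card, Fintype.card_subtype]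

end Cfsg.Agent.BlkWat
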